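import Groth.Agent.Lib.TotalFrac.Normal
import Mathlib.RingTheory.LocalProperties.Reduced

/-!
A reduced ring with finitely many minimal primes which is integrally closed in its total ring of
fractions is normal.
-/

set_option autoImplicit false
universe u

namespace GrothLib.TotalFrac

open scoped nonZeroDivisors
open Polynomial

theorem isField_localization_of_mem_minimalPrimes {R : Type u} [CommRing R] [IsReduced R] (q : Ideal R)
    [q.IsPrime] (hq : q ∈ minimalPrimes R) : IsField (Localization.AtPrime q) := by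
  rw [IsLocalRing.isField_iff_maximalIdeal_eq, eq_bot_iff]
  intro x hx
  refine IsReduced.eq_zero x ?_
  rw [← mem_nilradical, nilradical_eq_sInf, Submodule.mem_sInf]
  rintro (P : Ideal (Localization.AtPrime q)) (hP : P.IsPrime)
  have hle : P.comap (algebraMap R (Localization.AtPrime q)) ≤ q :=
    (Ideal.comap_mono (IsLocalRing.le_maximalIdeal hP.ne_top)).trans
      (IsLocalization.AtPrime.comap_maximalIdeal _ q).le
  have heq : P.under R = q := le_antisymm hle (hq.2 ⟨Ideal.comap_isPrime _ P, bot_le⟩ hle)
  rw [← IsLocalization.map_under q.primeCompl (Localization.AtPrime q) P, heq,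
    Localization.AtPrime.map_eq_maximalIdeal]
  exact hx

theorem normal_of_isIntegrallyClosedIn {R : Type u} [CommRing R] [IsReduced R]
    (hfin : (minimalPrimes R).Finite) (h : IsIntegrallyClosedIn R (FractionRing R)) (p : Ideal R) [p.IsPrime] :
    IsDomain (Localization.AtPrime p) ∧ IsIntegrallyClosed (Localization.AtPrime p) := by
  classical
  have : Nontrivial R :=
    ⟨⟨0, 1, fun h => Ideal.IsPrime.ne_top ‹p.IsPrime› ((Ideal.eq_top_iff_one _).2 (h ▸ p.zero_mem))⟩⟩
  let ι := {q : Ideal R // q ∈ minimalPrimes R}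
  have : Fintype ι := hfin.fintype
  have : ∀ q : ι, q.1.IsPrime := fun q => q.2.1.1
  let Q := ∀ q : ι, Localization.AtPrime q.1
  have hzd : ∀ x : R, x ∈ R⁰ ↔ ∀ q : ι, x ∉ q.1 := by
    refine fun x => ⟨fun hx q hxq =>
      Set.disjoint_left.1 (Ideal.disjoint_nonZeroDivisors_of_mem_minimalPrimes q.2) hxq hx, fun hall => ?_⟩
    rw [mem_nonZeroDivisors_iff_right]
    intro y hy
    refine IsReduced.eq_zero y ?_
    rw [← mem_nilradical, nilradical, ← Ideal.sInf_minimalPrimes, Submodule.mem_sInf]
    intro (q : Ideal R) hq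
    exact ((hq.1.1).mem_or_mem (show y * x ∈ q by simp [hy])).resolve_right (hall ⟨q, hq⟩)
  have hQ : IsLocalization R⁰ Q := isLocalization_pi (fun q : ι => q.1) Subtype.val_injective (fun q => q.2) hzd
  let eQ : FractionRing R ≃ₐ[R] Q := IsLocalization.algEquiv R⁰ (FractionRing R) Q
  have hint : ∀ z : Q, IsIntegral R z → ∃ c : R, algebraMap R Q c = z := fun z hz => by
    obtain ⟨c, hc⟩ := (isIntegrallyClosedIn_iff.1 h).2 (hz.map eQ.symm.toAlgHom)
    refine ⟨c, eQ.symm.injective ?_⟩
    rw [eQ.symm.commutes]; exact hc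
  have hidem : ∀ q : ι, ∃ e : R, algebraMap R Q e = Pi.single q 1 := fun q => by
    refine hint _ ⟨X ^ 2 - X, monic_X_pow_sub (by rw [degree_X]; norm_num), ?_⟩
    rw [eval₂_sub, eval₂_X_pow, eval₂_X, sq, sub_eq_zero, ← Pi.single_mul, one_mul]
  choose e he using hidem
  obtain ⟨q, hqp⟩ : ∃ q : ι, e q ∉ p := by
    by_contra hall
    push Not at hall
    refine Ideal.IsPrime.ne_top ‹p.IsPrime› ((Ideal.eq_top_iff_one _).2 ?_)
    have h1 : algebraMap R Q (∑ q, e q) = algebraMap R Q 1 := by
      rw [map_sum, map_one, Finset.sum_congr rfl fun q _ => he q]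
      exact Finset.univ_sum_single (1 : Q)
    rw [← IsLocalization.injective Q (le_refl R⁰) h1]
    exact Submodule.sum_mem _ fun q _ => hall q
  let K := Localization.AtPrime q.1
  let L := Localization.AtPrime p
  letI : Field K := (isField_localization_of_mem_minimalPrimes q.1 q.2).toField
  have hzero : ∀ x : R, algebraMap R K x = 0 → algebraMap R L x = 0 := fun x hx => by
    have h1 : algebraMap R Q (e q * x) = 0 := by
      rw [map_mul, he]
      funext j
      rcases eq_or_ne j q with rfl | hj
      · show (Pi.single j (1 : Localization.AtPrime j.1) : Q) j * algebraMap R (Localization.AtPrime j.1) x = 0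
        rw [Pi.single_eq_same, one_mul]; exact hx
      · show (Pi.single q (1 : K) : Q) j * algebraMap R (Localization.AtPrime j.1) x = 0
        rw [Pi.single_eq_of_ne hj, zero_mul]
    have h2 : e q * x = 0 := IsLocalization.injective Q (le_refl R⁰) (h1.trans (map_zero _).symm)
    exact (IsLocalization.map_eq_zero_iff p.primeCompl L x).2 ⟨⟨e q, hqp⟩, h2⟩
  have hqle : q.1 ≤ p := fun x hx => by
    by_contra hxp
    refine (IsLocalization.map_units L (⟨x, hxp⟩ : p.primeCompl)).ne_zero (hzero x ?_)
    by_contra hne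
    have hmem : algebraMap R K x ∈ IsLocalRing.maximalIdeal K := by
      rw [← Localization.AtPrime.map_eq_maximalIdeal]; exact Ideal.mem_map_of_mem _ hx
    exact hmem (isUnit_iff_ne_zero.2 hne)
  have hle : p.primeCompl ≤ q.1.primeCompl := fun x hx hxq => hx (hqle hxq)
  letI : Algebra L K := (IsLocalization.lift (M := p.primeCompl) (g := algebraMap R K)
    fun s => IsLocalization.map_units K (⟨s.1, hle s.2⟩ : q.1.primeCompl)).toAlgebra
  have : IsScalarTower R L K := IsScalarTower.of_algebraMap_eq fun r => by
    rw [RingHom.algebraMap_toAlgebra, IsLocalization.lift_eq]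
  have hinj : Function.Injective (algebraMap L K) := by
    rw [injective_iff_map_eq_zero]
    intro x hx
    obtain ⟨⟨a, s⟩, has⟩ := IsLocalization.surj p.primeCompl x
    have h1 := congrArg (algebraMap L K) has
    rw [map_mul, hx, zero_mul, ← IsScalarTower.algebraMap_apply] at h1
    exact (IsLocalization.map_units L s).mul_left_eq_zero.1 (has.trans (hzero a h1.symm))
  have : IsDomain L := hinj.isDomain (algebraMap L K)
  have : FaithfulSMul L K := (faithfulSMul_iff_algebraMap_injective L K).2 hinj
  have : IsFractionRing L K := IsFractionRing.of_field L K fun z => by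
    obtain ⟨⟨a, s⟩, has⟩ := IsLocalization.surj q.1.primeCompl z
    refine ⟨algebraMap R L a, algebraMap R L s, ?_⟩
    rw [← IsScalarTower.algebraMap_apply, ← IsScalarTower.algebraMap_apply, ← has,
      mul_div_cancel_right₀ _ (IsLocalization.map_units K s).ne_zero]
  refine ⟨inferInstance, (isIntegrallyClosed_iff K).2 fun {z} hz => ?_⟩
  obtain ⟨m, P, hP, hP0⟩ := IsIntegral.exists_multiple_integral_of_isLocalization (R := R) p.primeCompl z hz
  obtain ⟨c, hc⟩ := hint (Pi.single q (m • z)) ⟨P * X, hP.mul monic_X, by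
    funext j
    show Pi.evalRingHom (fun j : ι => Localization.AtPrime j.1) j _ = 0
    rw [hom_eval₂, eval₂_mul, eval₂_X]
    rcases eq_or_ne j q with rfl | hj
    · rw [Pi.evalRingHom_apply, Pi.single_eq_same]
      erw [hP0]
      rw [zero_mul]
    · rw [Pi.evalRingHom_apply, Pi.single_eq_of_ne hj, mul_zero]⟩
  have hc' := congrFun hc q
  rw [Pi.single_eq_same] at hc'
  change algebraMap R K c = (m : R) • z at hc'
  rw [Algebra.smul_def] at hc'
  obtain ⟨w, hw⟩ := (IsLocalization.map_units L m).exists_left_inv
  refine ⟨w * algebraMap R L c, ?_⟩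
  rw [map_mul, ← IsScalarTower.algebraMap_apply R L K c, hc', IsScalarTower.algebraMap_apply R L K (m : R),
    ← mul_assoc, ← map_mul, hw, map_one, one_mul]

end GrothLib.TotalFrac
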