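import Groth.Agent.Lib.TotalFrac.Basic
import Groth.Agent.Lib.IntegralMisc.Basic
import Mathlib.RingTheory.IntegralClosure.IntegrallyClosed
import Mathlib.RingTheory.Localization.FractionRing
import Mathlib.Algebra.Colimit.Ring

/-!
Normal rings (all localisations integrally closed domains): integral closedness in the total ring of
fractions and permanence properties.
-/

set_option autoImplicit false
universe u

namespace GrothLib.TotalFrac

open scoped nonZeroDivisors
open Polynomial

/-- A normal ring is integrally closed in its total ring of fractions. -/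
theorem isIntegrallyClosedIn_of_normal (R : Type u) [CommRing R]
    (hR : ∀ (p : Ideal R) [p.IsPrime], IsDomain (Localization.AtPrime p) ∧ IsIntegrallyClosed (Localization.AtPrime p)) :
    IsIntegrallyClosedIn R (FractionRing R) := by
  refine isIntegrallyClosedIn_iff.2 ⟨IsFractionRing.injective R _, fun {x} hx => ?_⟩
  obtain ⟨⟨a, s⟩, has⟩ := IsLocalization.surj R⁰ x
  let J : Ideal R :=
    { carrier := {r | ∃ c : R, algebraMap R (FractionRing R) r * x = algebraMap R _ c}
      zero_mem' := ⟨0, by simp⟩
      add_mem' := fun {y z} ⟨c, hc⟩ ⟨d, hd⟩ => ⟨c + d, by rw [map_add, add_mul, hc, hd, map_add]⟩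
      smul_mem' := fun t y ⟨c, hc⟩ => ⟨t * c, by rw [smul_eq_mul, map_mul, mul_assoc, hc, map_mul]⟩ }
  suffices hJ : J = ⊤ by
    obtain ⟨c, hc⟩ := (hJ ▸ Submodule.mem_top : (1 : R) ∈ J)
    exact ⟨c, by simpa using hc.symm⟩
  by_contra hJ
  obtain ⟨p, hp, hle⟩ := Ideal.exists_le_maximal J hJ
  obtain ⟨hdom, hclosed⟩ := hR p
  let L := Localization.AtPrime p
  -- non-zero-divisors stay nonzero in `L`
  have hnz : ∀ t : R⁰, algebraMap R L t ≠ 0 := by
    intro t ht
    obtain ⟨⟨u, hu⟩, hut⟩ := (IsLocalization.map_eq_zero_iff p.primeCompl L (t : R)).1 ht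
    exact hu (((mem_nonZeroDivisors_iff.1 t.2).2 u hut) ▸ p.zero_mem)
  let φ : FractionRing R →+* FractionRing L :=
    IsLocalization.lift (M := R⁰) (g := (algebraMap L (FractionRing L)).comp (algebraMap R L))
      fun t => IsUnit.mk0 _ ((map_ne_zero_iff _ (IsFractionRing.injective L _)).2 (hnz t))
  have hφ : ∀ r, φ (algebraMap R _ r) = algebraMap L (FractionRing L) (algebraMap R L r) := fun r =>
    IsLocalization.lift_eq _ r
  obtain ⟨P, hP, hP0⟩ := hx
  have hint : IsIntegral L (φ x) := by
    refine ⟨P.map (algebraMap R L), hP.map _, ?_⟩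
    rw [eval₂_map, show (algebraMap L (FractionRing L)).comp (algebraMap R L) =
      φ.comp (algebraMap R _) from (RingHom.ext hφ).symm, ← hom_eval₂, hP0, map_zero]
  obtain ⟨y, hy⟩ := IsIntegrallyClosed.isIntegral_iff.1 hint
  obtain ⟨⟨c, t⟩, hct⟩ := IsLocalization.surj p.primeCompl y
  have h1 : algebraMap R L ((t : R) * a) = algebraMap R L ((s : R) * c) := by
    refine IsFractionRing.injective L (FractionRing L) ?_
    rw [map_mul, map_mul, map_mul, map_mul, ← hct, map_mul, hy, ← hφ a, ← has, map_mul, hφ]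
    ring
  obtain ⟨⟨u, hu⟩, hut⟩ := (IsLocalization.eq_iff_exists p.primeCompl L).1 h1
  refine p.primeCompl.mul_mem hu t.2 (hle ⟨u * c, ?_⟩)
  have h2 : algebraMap R (FractionRing R) (u * ((t : R) * a)) = algebraMap R (FractionRing R) (u * ((s : R) * c)) :=
    congrArg _ hut
  refine (IsLocalization.map_units (FractionRing R) s).mul_right_cancel ?_
  rw [mul_assoc, has, ← map_mul, ← map_mul, mul_assoc u (t : R) a,
    show u * c * (s : R) = u * ((s : R) * c) by ring]
  exact h2

/-- A finite product of normal rings is normal. -/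
theorem normal_pi {ι : Type u} [Finite ι] (A : ι → Type u) [∀ i, CommRing (A i)]
    (hA : ∀ (i : ι) (p : Ideal (A i)) [p.IsPrime],
      IsDomain (Localization.AtPrime p) ∧ IsIntegrallyClosed (Localization.AtPrime p))
    (p : Ideal (∀ i, A i)) [hp : p.IsPrime] :
    IsDomain (Localization.AtPrime p) ∧ IsIntegrallyClosed (Localization.AtPrime p) := by
  classical
  have : Fintype ι := Fintype.ofFinite ι
  obtain ⟨i, hi⟩ : ∃ i, (Pi.single i 1 : ∀ j, A j) ∉ p := by
    by_contra hall
    push Not at hall
    refine hp.ne_top ((Ideal.eq_top_iff_one _).2 ?_)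
    rw [← Finset.univ_sum_single (1 : ∀ j, A j)]
    exact Submodule.sum_mem _ fun i _ => hall i
  let Q : Ideal (A i) := p.map (Pi.evalRingHom A i)
  have hsurj : Function.Surjective (Pi.evalRingHom A i) := fun a => ⟨Pi.single i a, Pi.single_eq_same i a⟩
  have hker : RingHom.ker (Pi.evalRingHom A i) ≤ p := fun x hx => by
    refine (hp.mem_or_mem (show x * Pi.single i 1 ∈ p from ?_)).resolve_right hi
    rw [show x * (Pi.single i 1 : ∀ j, A j) = 0 from funext fun j => by
      rcases eq_or_ne j i with rfl | hj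
      · simp [show x j = 0 from hx]
      · simp [Pi.single_eq_of_ne hj]]
    exact p.zero_mem
  have : Q.IsPrime := Ideal.map_isPrime_of_surjective hsurj hker
  have hcomap : Q.comap (Pi.evalRingHom A i) = p := by
    rw [Ideal.comap_map_of_surjective _ hsurj, sup_eq_left]
    exact hker
  suffices key : ∀ (Q : Ideal (A i)) [Q.IsPrime] (P : Ideal (∀ i, A i)) [P.IsPrime], P = Q.comap (Pi.evalRingHom A i) →
      IsDomain (Localization.AtPrime P) ∧ IsIntegrallyClosed (Localization.AtPrime P) from key Q p hcomap.symm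
  intro Q' _ P _ hP
  subst hP
  obtain ⟨hd, hc⟩ := hA i Q'
  let e := RingEquiv.ofBijective _ (Localization.AtPrime.mapPiEvalRingHom_bijective (R := A) Q')
  exact ⟨e.toMulEquiv.isDomain _, IsIntegrallyClosed.of_equiv e.symm⟩

end GrothLib.TotalFrac
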