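import Mathlib.RingTheory.Localization.AtPrime.Basic
import Mathlib.RingTheory.Ideal.MinimalPrime.Localization
import Mathlib.RingTheory.Spectrum.Prime.Basic
import Mathlib.Algebra.Group.Pi.Units

/-!
The product of the localisations at finitely many minimal primes as the total ring of fractions.
-/

set_option autoImplicit false
universe u v

namespace GrothLib.TotalFrac

open scoped nonZeroDivisors

variable {R : Type u} [CommRing R] {ι : Type v} [Fintype ι] (q : ι → Ideal R) [∀ i, (q i).IsPrime]

/-- An element outside `q i` vanishing in the localisations at the other minimal primes. -/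
theorem exists_separating (hinj : Function.Injective q) (hmem : ∀ i, q i ∈ minimalPrimes R) (i : ι) :
    ∃ e : R, e ∉ q i ∧ ∀ j, j ≠ i → algebraMap R (Localization.AtPrime (q j)) e = 0 := by
  classical
  have h1 : ∀ j, j ≠ i → ∃ a, a ∈ q j ∧ a ∉ q i := fun j hj => by
    refine SetLike.not_le_iff_exists.1 fun hle => hj (hinj (le_antisymm hle ?_))
    exact (hmem i).2 ⟨inferInstance, bot_le⟩ hle
  choose! a ha ha' using h1
  have h2 : ∀ j, j ≠ i → ∃ n, algebraMap R (Localization.AtPrime (q j)) (a j ^ n) = 0 := fun j hj => by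
    have : algebraMap R (Localization.AtPrime (q j)) (a j) ∈ nilradical (Localization.AtPrime (q j)) := by
      rw [nilradical_eq_sInf, Submodule.mem_sInf]
      rintro (P : Ideal (Localization.AtPrime (q j))) (hP : P.IsPrime)
      have hle : P.comap (algebraMap R _) ≤ q j :=
        (Ideal.comap_mono (IsLocalRing.le_maximalIdeal hP.ne_top)).trans
          (IsLocalization.AtPrime.comap_maximalIdeal _ (q j)).le
      exact (hmem j).2 ⟨Ideal.comap_isPrime _ P, bot_le⟩ hle (ha j hj)
    obtain ⟨n, hn⟩ := mem_nilradical.1 this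
    exact ⟨n, by rw [map_pow, hn]⟩
  choose! n hn using h2
  refine ⟨∏ j ∈ Finset.univ.erase i, a j ^ n j, fun h => ?_, fun j hj => ?_⟩
  · obtain ⟨j, hj, hj'⟩ := (Ideal.IsPrime.prod_mem_iff (hp := (inferInstance : (q i).IsPrime))).1 h
    exact ha' j (Finset.ne_of_mem_erase hj) ((inferInstance : (q i).IsPrime).mem_of_pow_mem _ hj')
  · obtain ⟨c, hc⟩ := Finset.dvd_prod_of_mem (fun j => a j ^ n j) (Finset.mem_erase.2 ⟨hj, Finset.mem_univ j⟩)
    rw [hc, map_mul, hn j hj, zero_mul]

theorem isLocalization_pi (hinj : Function.Injective q) (hmem : ∀ i, q i ∈ minimalPrimes R)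
    (hzd : ∀ x : R, x ∈ R⁰ ↔ ∀ i, x ∉ q i) :
    IsLocalization R⁰ (∀ i, Localization.AtPrime (q i)) := by
  classical
  choose e he he' using exists_separating q hinj hmem
  -- combining components
  have hcomb : ∀ (s : ι → R), (∀ i, s i ∉ q i) → (∑ i, e i * s i) ∈ R⁰ := by
    intro s hs
    rw [hzd]
    intro j hj
    have h1 : ∀ i ∈ Finset.univ.erase j, e i * s i ∈ q j := fun i hi => by
      refine Ideal.mul_mem_right _ _ ?_
      have h := he' i j (Finset.ne_of_mem_erase hi).symm
      obtain ⟨⟨t, ht⟩, h0⟩ := (IsLocalization.map_eq_zero_iff (q j).primeCompl _ _).1 h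
      exact ((inferInstance : (q j).IsPrime).mem_or_mem (by rw [h0]; exact zero_mem _)).resolve_left ht
    have h2 : e j * s j ∈ q j := by
      rw [← Finset.add_sum_erase _ _ (Finset.mem_univ j)] at hj
      exact (Ideal.add_mem_iff_left _ (Submodule.sum_mem _ h1)).1 hj
    exact ((inferInstance : (q j).IsPrime).mem_or_mem h2).elim (he j) (hs j)
  have hval : ∀ (a : ι → R) (j : ι), algebraMap R (Localization.AtPrime (q j)) (∑ i, e i * a i) =
      algebraMap R _ (e j) * algebraMap R _ (a j) := fun a j => by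
    rw [map_sum, Finset.sum_eq_single j, map_mul]
    · intro i _ hij
      rw [map_mul, he' i j (Ne.symm hij), zero_mul]
    · simp
  refine (isLocalization_iff _ _).2 ⟨?_, ?_, ?_⟩
  · rintro ⟨s, hs⟩
    rw [Pi.isUnit_iff]
    exact fun i => IsLocalization.map_units (M := (q i).primeCompl) _ ⟨s, (hzd s).1 hs i⟩
  · intro x
    choose p hp using fun i => IsLocalization.surj (q i).primeCompl (x i)
    refine ⟨(∑ i, e i * (p i).1, ⟨∑ i, e i * ((p i).2 : R), hcomb _ fun i => (p i).2.2⟩), funext fun j => ?_⟩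
    show x j * algebraMap R _ (∑ i, e i * ((p i).2 : R)) = algebraMap R _ (∑ i, e i * (p i).1)
    rw [hval, hval, ← hp j]; ring
  · intro x y hxy
    have h : ∀ i, ∃ s : R, s ∉ q i ∧ s * x = s * y := fun i => by
      obtain ⟨s, hs⟩ := (IsLocalization.eq_iff_exists (q i).primeCompl _).1 (congrFun hxy i)
      exact ⟨s, s.2, hs⟩
    choose s hs hsxy using h
    refine ⟨⟨∑ i, e i * s i, hcomb s hs⟩, ?_⟩
    show (∑ i, e i * s i) * x = (∑ i, e i * s i) * y
    simp only [Finset.sum_mul, mul_assoc, hsxy]

end GrothLib.TotalFrac
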